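import Cfsg.Agent.Lib.Helper6.TCD.Suzb.NCP0
import Cfsg.Agent.Lib.Helper6.TCD.Suzb.NCP1
set_option autoImplicit false
namespace Cfsg.Agent.Lib.Helper6.TCD.Suzb
noncomputable def NC (i : Nat) : Nat := Bool.rec (NCP0N62 i) (NCP1N0 i) (Nat.ble 32768 i)
end Cfsg.Agent.Lib.Helper6.TCD.Suzb
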