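import Cfsg.Agent.Lib.Helper6.TCD.Suzb.SH
import Cfsg.Agent.Lib.Helper6.TCD.Suzb.SC
import Cfsg.Agent.Lib.Helper6.TCD.Suzb.NH
import Cfsg.Agent.Lib.Helper6.TCD.Suzb.NC
import Cfsg.Agent.Lib.Helper6.TCD.Suzb.WD
import Cfsg.Agent.Lib.Helper6.TCD.Suzb.WI
import Cfsg.Agent.Lib.Helper6.TCD.Suzb.P0
import Cfsg.Agent.Lib.Helper6.TCD.Suzb.P1
import Cfsg.Agent.Lib.Helper6.TCD.Suzb.P2
import Cfsg.Agent.Lib.Helper6.TCD.Suzb.P3
import Cfsg.Agent.Lib.Helper6.TCD.Suzb.P4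
import Cfsg.Agent.Lib.Helper6.TCD.Suzb.P5
import Cfsg.Agent.Lib.Helper6.TCD.Suzb.P6
import Cfsg.Agent.Lib.Helper6.TCD.Suzb.GT
import Cfsg.Agent.Lib.Helper6.TCD.Suzb.HR
set_option autoImplicit false
namespace Cfsg.Agent.Lib.Helper6.TCD.Suzb
def n : Nat := 33378
def ncol : Nat := 7
def nrw : Nat := 143
def nw : Nat := 149
def tmax : Nat := 219680
def INV : Nat := 106181136
def N : Nat := 22880
noncomputable def px (c p : Nat) : Nat := Nat.rec (motive := fun _ => Nat) (P0 p) (fun k0 _ => Nat.rec (motive := fun _ => Nat) (P1 p) (fun k1 _ => Nat.rec (motive := fun _ => Nat) (P2 p) (fun k2 _ => Nat.rec (motive := fun _ => Nat) (P3 p) (fun k3 _ => Nat.rec (motive := fun _ => Nat) (P4 p) (fun k4 _ => Nat.rec (motive := fun _ => Nat) (P5 p) (fun k5 _ => P6 p) k4) k3) k2) k1) k0) c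
noncomputable def H0 (p : Nat) : Nat := P0 p
noncomputable def H1 (p : Nat) : Nat := P1 p
noncomputable def H2 (p : Nat) : Nat := P2 p
noncomputable def H3 (p : Nat) : Nat := P3 p
noncomputable def H4 (p : Nat) : Nat := P5 p
noncomputable def H5 (p : Nat) : Nat := P6 p
noncomputable def hsel (c p : Nat) : Nat := Nat.rec (motive := fun _ => Nat) (H0 p) (fun k0 _ => Nat.rec (motive := fun _ => Nat) (H1 p) (fun k1 _ => Nat.rec (motive := fun _ => Nat) (H2 p) (fun k2 _ => Nat.rec (motive := fun _ => Nat) (H3 p) (fun k3 _ => Nat.rec (motive := fun _ => Nat) (H4 p) (fun k4 _ => H5 p) k3) k2) k1) k0) c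
noncomputable def lab (p : Nat) : Nat := Nat.land (HR p) 15
noncomputable def rnk (p : Nat) : Nat := Nat.shiftRight (HR p) 8
noncomputable def mv (p : Nat) : Nat := hsel (Nat.land (Nat.shiftRight (HR p) 4) 15) p
noncomputable def isRoot (p : Nat) : Bool := Bool.rec (Bool.rec (Bool.rec (Bool.rec (Bool.rec (false) true (Nat.beq p 7122)) true (Nat.beq p 67)) true (Nat.beq p 10)) true (Nat.beq p 1)) true (Nat.beq p 0)
noncomputable def R0 (p : Nat) : Nat := P0 (P0 p)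
noncomputable def R1 (p : Nat) : Nat := P1 (P1 p)
noncomputable def R2 (p : Nat) : Nat := P2 (P2 p)
noncomputable def R3 (p : Nat) : Nat := P3 (P3 p)
noncomputable def R4 (p : Nat) : Nat := P4 (P4 p)
noncomputable def R5 (p : Nat) : Nat := P5 (P5 p)
noncomputable def R6 (p : Nat) : Nat := P6 (P6 p)
noncomputable def R7 (p : Nat) : Nat := P1 (P0 (P1 (P0 (P1 (P0 (P1 (P0 (P1 (P0 p)))))))))
noncomputable def R8 (p : Nat) : Nat := P2 (P0 (P2 (P0 p)))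
noncomputable def R9 (p : Nat) : Nat := P3 (P0 (P3 (P0 p)))
noncomputable def R10 (p : Nat) : Nat := P4 (P0 (P4 (P0 p)))
noncomputable def R11 (p : Nat) : Nat := P5 (P0 (P5 (P0 p)))
noncomputable def R12 (p : Nat) : Nat := P6 (P0 (P6 (P0 p)))
noncomputable def R13 (p : Nat) : Nat := P2 (P1 (P2 (P1 (P2 (P1 p)))))
noncomputable def R14 (p : Nat) : Nat := P3 (P1 (P3 (P1 p)))
noncomputable def R15 (p : Nat) : Nat := P4 (P1 (P4 (P1 p)))
noncomputable def R16 (p : Nat) : Nat := P5 (P1 (P5 (P1 (P5 (P1 p)))))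
noncomputable def R17 (p : Nat) : Nat := P6 (P1 (P6 (P1 (P6 (P1 p)))))
noncomputable def R18 (p : Nat) : Nat := P3 (P2 (P3 (P2 (P3 (P2 (P3 (P2 (P3 (P2 (P3 (P2 (P3 (P2 (P3 (P2 p)))))))))))))))
noncomputable def R19 (p : Nat) : Nat := P4 (P2 (P4 (P2 p)))
noncomputable def R20 (p : Nat) : Nat := P5 (P2 (P5 (P2 p)))
noncomputable def R21 (p : Nat) : Nat := P6 (P2 (P6 (P2 p)))
noncomputable def R22 (p : Nat) : Nat := P4 (P3 (P4 (P3 (P4 (P3 p)))))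
noncomputable def R23 (p : Nat) : Nat := P5 (P3 (P5 (P3 p)))
noncomputable def R24 (p : Nat) : Nat := P6 (P3 (P6 (P3 p)))
noncomputable def R25 (p : Nat) : Nat := P5 (P4 (P5 (P4 p)))
noncomputable def R26 (p : Nat) : Nat := P6 (P4 (P6 (P4 p)))
noncomputable def R27 (p : Nat) : Nat := P6 (P5 (P6 (P5 (P6 (P5 (P6 (P5 p)))))))
noncomputable def R28 (p : Nat) : Nat := P2 (P3 (P2 (P3 (P2 (P3 (P2 (P3 (P0 p))))))))
noncomputable def R29 (p : Nat) : Nat := P5 (P6 (P5 (P6 (P0 p))))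
noncomputable def R30 (p : Nat) : Nat := P5 (P2 (P1 (P0 (P5 (P2 (P1 (P0 (P5 (P2 (P1 (P0 (P5 (P2 (P1 (P0 (P5 (P2 (P1 (P0 p)))))))))))))))))))
noncomputable def R31 (p : Nat) : Nat := P6 (P5 (P1 (P6 (P5 (P1 (P6 (P5 (P1 (P6 (P5 (P1 (P6 (P5 (P1 p))))))))))))))
noncomputable def R32 (p : Nat) : Nat := P4 (P3 (P2 (P3 (P2 (P1 (P3 (P2 (P3 (P2 (P1 (P3 (P2 (P3 (P2 (P1 (P3 (P2 (P3 (P2 (P1 (P3 (P2 (P3 (P2 (P1 (P4 (P3 (P2 (P3 (P2 (P1 (P3 (P2 (P3 (P2 (P1 (P3 (P2 (P3 (P2 (P1 (P3 (P2 (P3 (P2 (P1 (P3 (P2 (P3 (P2 (P1 (P4 (P3 (P2 (P3 (P2 (P1 (P3 (P2 (P3 (P2 (P1 (P3 (P2 (P3 (P2 (P1 (P3 (P2 (P3 (P2 (P1 (P3 (P2 (P3 (P2 (P1 p)))))))))))))))))))))))))))))))))))))))))))))))))))))))))))))))))))))))))))))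
end Cfsg.Agent.Lib.Helper6.TCD.Suzb
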