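import Cfsg.Agent.Lib.Helper6.TC11
import Cfsg.Agent.Lib.Helper6.TCD.Suzb.Par
set_option autoImplicit false
set_option maxRecDepth 1000000
set_option Elab.async false
open Cfsg.Agent.Lib.Helper6.TC
namespace Cfsg.Agent.Lib.Helper6.TCD.Suzb
theorem chkR0_0 : chkFix R0 0 22880 = true := by decide +kernel
theorem chkR1_0 : chkFix R1 0 22880 = true := by decide +kernel
theorem chkR2_0 : chkFix R2 0 22880 = true := by decide +kernel
theorem chkR3_0 : chkFix R3 0 22880 = true := by decide +kernel
theorem chkR4_0 : chkFix R4 0 22880 = true := by decide +kernel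
end Cfsg.Agent.Lib.Helper6.TCD.Suzb
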