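import Cfsg.Agent.Lib.Helper6.TCD.Suzb.CS0
import Cfsg.Agent.Lib.Helper6.TCD.Suzb.CS1
import Cfsg.Agent.Lib.Helper6.TCD.Suzb.CS2
import Cfsg.Agent.Lib.Helper6.TCD.Suzb.CS3
import Cfsg.Agent.Lib.Helper6.TCD.Suzb.CS4
import Cfsg.Agent.Lib.Helper6.TCD.Suzb.CS5
import Cfsg.Agent.Lib.Helper6.TCD.Suzb.CS6
import Cfsg.Agent.Lib.Helper6.TCD.Suzb.CS7
import Cfsg.Agent.Lib.Helper6.TCD.Suzb.CS8
import Cfsg.Agent.Lib.Helper6.TCD.Suzb.CS9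
import Cfsg.Agent.Lib.Helper6.TCD.Suzb.CS10
import Cfsg.Agent.Lib.Helper6.TCD.Suzb.CS11
import Cfsg.Agent.Lib.Helper6.TCD.Suzb.CS12
import Cfsg.Agent.Lib.Helper6.TCD.Suzb.CS13
import Cfsg.Agent.Lib.Helper6.TCD.Suzb.CS14
import Cfsg.Agent.Lib.Helper6.TCD.Suzb.CS15
import Cfsg.Agent.Lib.Helper6.TCD.Suzb.CS16
import Cfsg.Agent.Lib.Helper6.TCD.Suzb.CS17
import Cfsg.Agent.Lib.Helper6.TCD.Suzb.CS18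
import Cfsg.Agent.Lib.Helper6.TCD.Suzb.CS19
import Cfsg.Agent.Lib.Helper6.TCD.Suzb.CS20
import Cfsg.Agent.Lib.Helper6.TCD.Suzb.CS21
import Cfsg.Agent.Lib.Helper6.TCD.Suzb.CS22
import Cfsg.Agent.Lib.Helper6.TCD.Suzb.CS23
import Cfsg.Agent.Lib.Helper6.TCD.Suzb.CS24
import Cfsg.Agent.Lib.Helper6.TCD.Suzb.CS25
import Cfsg.Agent.Lib.Helper6.TCD.Suzb.CS26
import Cfsg.Agent.Lib.Helper6.TCD.Suzb.CS27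
import Cfsg.Agent.Lib.Helper6.TCD.Suzb.CS28
import Cfsg.Agent.Lib.Helper6.TCD.Suzb.CS29
import Cfsg.Agent.Lib.Helper6.TCD.Suzb.CN0
import Cfsg.Agent.Lib.Helper6.TCD.Suzb.CN1
import Cfsg.Agent.Lib.Helper6.TCD.Suzb.CN2
import Cfsg.Agent.Lib.Helper6.TCD.Suzb.CN3
import Cfsg.Agent.Lib.Helper6.TCD.Suzb.CN4
import Cfsg.Agent.Lib.Helper6.TCD.Suzb.CN5
import Cfsg.Agent.Lib.Helper6.TCD.Suzb.CC
import Cfsg.Agent.Lib.Helper6.TCD.Suzb.CPa0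
import Cfsg.Agent.Lib.Helper6.TCD.Suzb.CPa1
import Cfsg.Agent.Lib.Helper6.TCD.Suzb.CPa2
import Cfsg.Agent.Lib.Helper6.TCD.Suzb.CPb
import Cfsg.Agent.Lib.Helper6.TCD.Suzb.CPc0
import Cfsg.Agent.Lib.Helper6.TCD.Suzb.CPc1
import Cfsg.Agent.Lib.Helper6.TCD.Suzb.CR0
import Cfsg.Agent.Lib.Helper6.TCD.Suzb.CR1
import Cfsg.Agent.Lib.Helper6.TCD.Suzb.CR2
import Cfsg.Agent.Lib.Helper6.TCD.Suzb.CR3
import Cfsg.Agent.Lib.Helper6.TCD.Suzb.CR4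
import Cfsg.Agent.Lib.Helper6.TCD.Suzb.CR5
import Cfsg.Agent.Lib.Helper6.TCD.Suzb.CR6
import Cfsg.Agent.Lib.Helper6.TCD.Suzb.CR7
import Cfsg.Agent.Lib.Helper6.TCD.Suzb.CR8
import Cfsg.Agent.Lib.Helper6.TCD.Suzb.CR9
import Cfsg.Agent.Lib.Helper6.TCD.Suzb.CR10
import Cfsg.Agent.Lib.Helper6.TCD.Suzb.CR11
import Cfsg.Agent.Lib.Helper6.TCD.Suzb.CR12
import Cfsg.Agent.Lib.Helper6.TCD.Suzb.CR13
import Cfsg.Agent.Lib.Helper6.TCD.Suzb.CR14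
import Cfsg.Agent.Lib.Helper6.TCD.Suzb.CR15
import Cfsg.Agent.Lib.Helper6.TCD.Suzb.CR16
import Cfsg.Agent.Lib.Helper6.TCD.Suzb.CR17
import Cfsg.Agent.Lib.Helper6.TCD.Suzb.CR18
import Cfsg.Agent.Lib.Helper6.TCD.Suzb.CR19
import Cfsg.Agent.Lib.Helper6.TCD.Suzb.CR20
import Cfsg.Agent.Lib.Helper6.TCD.Suzb.CR21
import Cfsg.Agent.Lib.Helper6.TCD.Suzb.CR22
import Cfsg.Agent.Lib.Helper6.TCD.Suzb.CR23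
import Cfsg.Agent.Lib.Helper6.TCD.Suzb.CR24
import Cfsg.Agent.Lib.Helper6.TCD.Suzb.CR25
import Cfsg.Agent.Lib.Helper6.TCD.Suzb.CR26
import Cfsg.Agent.Lib.Helper6.TCD.Suzb.CR27
import Cfsg.Agent.Lib.Helper6.TCD.Suzb.CR28
import Cfsg.Agent.Lib.Helper6.TCD.Suzb.CR29
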